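import Groth.Agent.FppfPic.RelPic
import Groth.Agent.PicCurve.Rigify
import Groth.Agent.RelPicGrp.Lift
import Groth.Agent.RelPicGrp.Descent

/-!
# Rigidified descent of classes to open pieces with a section
-/

noncomputable section

set_option autoImplicit false
set_option linter.style.haveILetI false
set_option linter.unusedSectionVars false
set_option backward.isDefEq.respectTransparency false
set_option backward.isDefEq.respectTransparency.types false
set_option maxHeartbeats 1000000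
set_option synthInstance.maxHeartbeats 400000
attribute [-instance] CategoryTheory.catToReflQuiver

universe u

open CategoryTheory CategoryTheory.Limits AlgebraicGeometry TopologicalSpace Opposite
open Groth.Agent.H23.PicMul

namespace Groth.Agent.PicAb

open Groth.Agent

/-- The morphism from the disjoint union of an étale covering is flat, surjective, locally of finite presentation. -/
theorem sigma_props {T : Scheme.{u}} {J : Type u} {U : J → T.Etale} (hU : EtCoh.Covers U) :
    Flat (Sigma.desc fun i => (U i).hom) ∧ LocallyOfFinitePresentation (Sigma.desc fun i => (U i).hom) ∧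
      Surjective (Sigma.desc fun i => (U i).hom) := by
  haveI : ∀ i, Etale (U i).hom := fun i => (U i).prop
  refine ⟨?_, ?_, ⟨fun t => ?_⟩⟩
  · rw [IsZariskiLocalAtSource.iff_of_openCover (P := @Flat) (sigmaOpenCover _)]
    intro i
    show Flat (Sigma.ι _ i ≫ _)
    rw [Sigma.ι_desc]
    infer_instance
  · rw [IsZariskiLocalAtSource.iff_of_openCover (P := @LocallyOfFinitePresentation) (sigmaOpenCover _)]
    intro i
    show LocallyOfFinitePresentation (Sigma.ι _ i ≫ _)
    rw [Sigma.ι_desc]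
    infer_instance
  · obtain ⟨i, y, hy⟩ := hU t
    refine ⟨Sigma.ι (fun i => (U i).left) i y, ?_⟩
    exact (congrArg (fun m : (U i).left ⟶ T => m y) (Sigma.ι_desc (fun i => (U i).hom) i)).trans hy

variable {X Y S : Scheme.{u}} (f : X ⟶ S) (j : Y ⟶ X)

/-- The map of base changes induced by a map over the base. -/
def jT (T : Over S) : PicF.XT (j ≫ f) T ⟶ PicF.XT f T :=
  pullback.map (j ≫ f) T.hom f T.hom j (𝟙 _) (𝟙 _) (by simp) (by simp)

@[reassoc]
theorem jT_natural {T T' : Over S} (g : T' ⟶ T) :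
    PicF.XTmap (j ≫ f) g ≫ jT f j T = jT f j T' ≫ PicF.XTmap f g := by
  refine pullback.hom_ext ?_ ?_ <;> simp [PicF.XTmap, jT, pullback.map]

theorem pull_jT_natural {T T' : Over S} (g : T' ⟶ T) (c : PicF.Cl (PicF.XT f T)) :
    PicF.pullCl (PicF.XTmap (j ≫ f) g) (PicF.pullCl (jT f j T) c) =
      PicF.pullCl (jT f j T') (PicF.pullCl (PicF.XTmap f g) c) := by
  rw [PicClLib.pullCl_comp, jT_natural, ← PicClLib.pullCl_comp]

section Rigid

variable {Z : Scheme.{u}} (h : Z ⟶ S) (σ : S ⟶ Z) (hσ : σ ≫ h = 𝟙 S)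
  (ha : ∀ (T : Over S) (U : T.left.Opens), IsIso ((PicF.XTproj h T).app U))

include ha in
/-- Rigidified classes agreeing étale locally on the base are equal. -/
theorem eq_of_locally {T : Over S} (c d : PicF.Rig h σ hσ T) {J : Type u} {U : J → T.left.Etale}
    (hU : EtCoh.Covers U)
    (he : ∀ i, PicF.pullCl (PicF.XTmap h (AbDual.ovrHom T (U i).hom)) c.1 =
      PicF.pullCl (PicF.XTmap h (AbDual.ovrHom T (U i).hom)) d.1) : c = d := by
  let V := fun i => (U i).left
  let u : ∀ i, V i ⟶ T.left := fun i => (U i).hom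
  obtain ⟨hflat, hlfp, hsurj⟩ := sigma_props hU
  haveI : Flat (Sigma.desc u) := hflat
  haveI : LocallyOfFinitePresentation (Sigma.desc u) := hlfp
  haveI : Surjective (Sigma.desc u) := hsurj
  let h' : ∀ i, AbDual.ovr T (u i) ⟶ AbDual.ovr T (Sigma.desc u) := fun i => Over.homMk (Sigma.ι V i) (by
    show Sigma.ι V i ≫ Sigma.desc u ≫ T.hom = u i ≫ T.hom
    rw [Sigma.ι_desc_assoc])
  obtain ⟨ho, hcov, hdisj⟩ := FppfPic.sigma_pieces h V u h' fun _ => rfl
  haveI := ho
  have hh : ∀ i, h' i ≫ AbDual.ovrHom T (Sigma.desc u) = AbDual.ovrHom T (u i) := fun i =>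
    Over.OverMorphism.ext (Sigma.ι_desc _ _)
  refine Subtype.ext (FppfPic.eq_of_rigid (FppfPic.flatBij_XTproj h ha T)
    (FppfPic.isPullback_XTmap h (AbDual.ovrHom T (Sigma.desc u))) (u := Sigma.desc u) (PicF.secT h σ hσ T)
    (pullback.lift_snd _ _ _) c.2.1 d.2.1 ?_ c.2.2 d.2.2)
  refine FppfPic.eq_of_disjoint _ (fun i => PicF.XTmap h (h' i)) hcov
    (fun a b hab => disjoint_iff.2 (Opens.ext (disjoint_iff.1 (hdisj a b hab))))
    (FppfPic.isInvertibleCl_pull _ c.2.1) (FppfPic.isInvertibleCl_pull _ d.2.1) fun i => ?_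
  rw [FppfPic.pullCl_XTmap_comp, FppfPic.pullCl_XTmap_comp, hh i]
  exact he i

end Rigid

variable {P : Over S} {φ : ∀ T : Over S, PicF.Cl (PicF.XT f T) → (T ⟶ P)} (hP : PicRel.IsRelPic f P φ)
  (σ : S ⟶ Y) (hσ : σ ≫ (j ≫ f) = 𝟙 S)
  (ha : ∀ (T : Over S) (U : T.left.Opens), IsIso ((PicF.XTproj (j ≫ f) T).app U))

include hP ha in
/-- A point of the Picard scheme gives a rigidified class on a piece with a section, with the expected
restrictions to strictly henselian points. -/
theorem exists_rig_piece (T : Over S) (g : T ⟶ P) :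
    ∃ d : PicF.Rig (j ≫ f) σ hσ T, ∀ (E : Over S), RelPicGrp.HasSec E.left → ∀ (v : E ⟶ T)
      (c : PicF.Cl (PicF.XT f E)) (hc : PicF.IsInvertibleCl c), φ E c = v ≫ g →
      PicF.pullCl (PicF.XTmap (j ≫ f) v) d.1 =
        (PicCurve.rigify (j ≫ f) σ hσ (FppfPic.isInvertibleCl_pull (jT f j E) hc)).1 := by
  obtain ⟨J, W, hW, he⟩ := hP.locallySurjective T g
  let V := fun i => (W i).left
  let u : ∀ i, V i ⟶ T.left := fun i => (W i).hom
  obtain ⟨hflat, hlfp, hsurj⟩ := sigma_props hW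
  haveI : Flat (Sigma.desc u) := hflat
  haveI : LocallyOfFinitePresentation (Sigma.desc u) := hlfp
  haveI : Surjective (Sigma.desc u) := hsurj
  let h' : ∀ i, AbDual.ovr T (u i) ⟶ AbDual.ovr T (Sigma.desc u) := fun i => Over.homMk (Sigma.ι V i) (by
    show Sigma.ι V i ≫ Sigma.desc u ≫ T.hom = u i ≫ T.hom
    rw [Sigma.ι_desc_assoc])
  obtain ⟨ho, hcov, hdisj⟩ := FppfPic.sigma_pieces f V u h' fun _ => rfl
  haveI := ho
  choose c₀ hc₀ hφ₀ using he
  choose L hLc hL using hc₀
  obtain ⟨M, hM, hMi⟩ := FppfPic.exists_disjoint_module _ (fun i => PicF.XTmap f (h' i)) hcov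
    (fun a b hab => disjoint_iff.2 (Opens.ext (disjoint_iff.1 (hdisj a b hab)))) L hL
  let T' := AbDual.ovr T (Sigma.desc u)
  let p := AbDual.ovrHom T (Sigma.desc u)
  have hMinv : PicF.IsInvertibleCl (PicF.cl M) := ⟨M, rfl, hM⟩
  have hφM : φ T' (PicF.cl M) = p ≫ g := by
    apply Over.OverMorphism.ext
    refine Sigma.hom_ext (f := V) _ _ fun i => ?_
    have e := hP.natural T' _ (h' i) (PicF.cl M) hMinv
    rw [hMi i, hLc i] at e
    have e2 := e.symm.trans (hφ₀ i)
    have e' := congrArg Over.Hom.left e2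
    rw [Over.comp_left, Over.comp_left] at e'
    rw [Over.comp_left]
    exact e'.trans ((congrArg (· ≫ g.left) (Sigma.ι_desc u i).symm).trans (Category.assoc _ _ _))
  let C := PicCurve.rigify (j ≫ f) σ hσ (FppfPic.isInvertibleCl_pull (jT f j T') hMinv)
  let p₁ : AbDual.ovr T' (pullback.fst (Sigma.desc u) (Sigma.desc u)) ⟶ T' :=
    AbDual.ovrHom T' (pullback.fst (Sigma.desc u) (Sigma.desc u))
  let p₂ : AbDual.ovr T' (pullback.fst (Sigma.desc u) (Sigma.desc u)) ⟶ T' :=
    Over.homMk (pullback.snd (Sigma.desc u) (Sigma.desc u)) (pullback.condition_assoc T.hom).symm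
  have hglue : PicF.pullCl (PicF.XTmap (j ≫ f) p₁) C.1 = PicF.pullCl (PicF.XTmap (j ≫ f) p₂) C.1 := by
    have h12 : φ _ (PicF.pullCl (PicF.XTmap f p₁) (PicF.cl M)) = φ _ (PicF.pullCl (PicF.XTmap f p₂) (PicF.cl M)) := by
      rw [hP.natural _ _ p₁ _ hMinv, hP.natural _ _ p₂ _ hMinv, hφM, ← Category.assoc, ← Category.assoc]
      congr 1
      exact Over.OverMorphism.ext pullback.condition
    obtain ⟨J', W', hW', he'⟩ := hP.locallyInjective _ _ _ (FppfPic.isInvertibleCl_pull _ hMinv)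
      (FppfPic.isInvertibleCl_pull _ hMinv) h12
    refine congrArg Subtype.val (eq_of_locally (j ≫ f) σ hσ ha (PicCurve.rigPull (j ≫ f) σ hσ p₁ C)
      (PicCurve.rigPull (j ≫ f) σ hσ p₂ C) hW' fun i => ?_)
    rw [PicCurve.rigPull_rigify, PicCurve.rigPull_rigify]
    refine congrArg Subtype.val ((PicCurve.rigPull_rigify (j ≫ f) σ hσ (AbDual.ovrHom _ (W' i).hom) _).trans
      ((PicCurve.rigify_congr (j ≫ f) σ hσ _ _ ?_).trans
        (PicCurve.rigPull_rigify (j ≫ f) σ hσ (AbDual.ovrHom _ (W' i).hom) _).symm))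
    rw [pull_jT_natural, pull_jT_natural, pull_jT_natural, pull_jT_natural]
    exact congrArg (PicF.pullCl (jT f j _)) (he' i)
  obtain ⟨d, hd, -⟩ := FppfPic.existsUnique_rig (j ≫ f) σ hσ ha T (Sigma.desc u) C hglue
  refine ⟨d, fun E hE v c hc hφc => ?_⟩
  obtain ⟨W', q, hW', hq⟩ := RelPicGrp.exists_pullback_cover v hW
  obtain ⟨i, s, hs⟩ := RelPicGrp.exists_section_lift hP hE hW'
  let w : E ⟶ T' := s ≫ q i ≫ h' i
  have hw : w ≫ p = v := by
    have hh : h' i ≫ p = PicRel.ovrHom T (W i) := Over.OverMorphism.ext (Sigma.ι_desc _ _)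
    rw [show w ≫ p = s ≫ q i ≫ h' i ≫ p by simp only [w, Category.assoc], hh, hq i, ← Category.assoc, hs,
      Category.id_comp]
  have hcw : PicF.pullCl (PicF.XTmap f w) (PicF.cl M) = c := RelPicGrp.eq_of_phi_eq hP hE
    (FppfPic.isInvertibleCl_pull _ hMinv) hc (by rw [hP.natural _ _ w _ hMinv, hφM, ← Category.assoc, hw, hφc])
  rw [← hw, ← FppfPic.pullCl_XTmap_comp, hd]
  refine congrArg Subtype.val ((PicCurve.rigPull_rigify (j ≫ f) σ hσ w _).trans
    (PicCurve.rigify_congr (j ≫ f) σ hσ _ _ ?_))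
  rw [pull_jT_natural, hcw]

end Groth.Agent.PicAb
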