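import Groth.Agent.PicAb.Normal
import Groth.Agent.PicAb.Descend
import Groth.Agent.AbExt.Prelim
import Groth.Agent.SwanPic.Global
import Groth.Agent.H9SectChart.Basic
import Groth.Agent.H23.EquidimFibres
import Groth.Agent.Lib.GammaDescent
import Groth.Agent.FppfPic.ExtendRegular
import Groth.Agent.Deform.AffineKernel

/-!
# Maps from open subsets of the affine line to the Picard scheme of a normal proper variety are constant
-/

noncomputable section

set_option autoImplicit false
set_option linter.style.haveILetI false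
set_option linter.unusedSectionVars false
set_option backward.isDefEq.respectTransparency false
set_option backward.isDefEq.respectTransparency.types false
set_option maxHeartbeats 1000000
set_option synthInstance.maxHeartbeats 400000
attribute [-instance] CategoryTheory.catToReflQuiver

universe u

open CategoryTheory CategoryTheory.Limits AlgebraicGeometry TopologicalSpace Opposite
open Groth.Agent.H23.PicMul

namespace Groth.Agent.PicAb

open Groth.Agent

variable {k : Type u} [Field k]

/-- The base point as a scheme over the base field. -/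
abbrev baseObj (k : Type u) [Field k] : Over (Spec (CommRingCat.of k)) := Over.mk (𝟙 _)

theorem cl_point_eq_one {n : PicF.Cl (Spec (CommRingCat.of k))} (hn : PicF.IsInvertibleCl n) : n = 1 := by
  obtain ⟨V, hV, h⟩ := PicCurve.exists_open_trivial hn (IsLocalRing.closedPoint k)
  have hVt : V = ⊤ := eq_top_iff.2 fun x _ => by
    rw [Subsingleton.elim (α := PrimeSpectrum k) x (IsLocalRing.closedPoint k)]; exact hV
  haveI : IsIso V.ι := by
    rw [hVt, ← Scheme.topIso_hom]
    infer_instance
  have h2 := congrArg (PicF.pullCl (inv V.ι)) h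
  rw [PicClLib.pullCl_comp, IsIso.inv_hom_id, PicClLib.pullCl_id, pullCl_one] at h2
  exact h2

theorem rigify_point {Y : Scheme.{u}} (h : Y ⟶ Spec (CommRingCat.of k)) (σ : Spec (CommRingCat.of k) ⟶ Y)
    (hσ : σ ≫ h = 𝟙 _) {a : PicF.Cl (PicF.XT h (baseObj k))} (ha : PicF.IsInvertibleCl a) :
    (PicCurve.rigify h σ hσ ha).1 = a := by
  show a * PicF.pullCl _ _ = a
  rw [cl_point_eq_one (PicCurve.isInvertibleCl_invCl _), pullCl_one, _root_.mul_one]

variable [IsAlgClosed k]

/-- Fibres of a class over an open subset of the affine line are all equal. -/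
theorem pull_eq_of_line {Y : Scheme.{u}} [IsIntegral Y] (h : Y ⟶ Spec (CommRingCat.of k)) [LocallyOfFiniteType h]
    (hY : Pi1.IsNormalScheme Y) {T : Over (Spec (CommRingCat.of k))}
    (j : T.left ⟶ 𝔸(PUnit.{u + 1}; Spec (CommRingCat.of k))) [IsOpenImmersion j]
    (hj : j ≫ (𝔸(PUnit.{u + 1}; Spec (CommRingCat.of k)) ↘ Spec (CommRingCat.of k)) = T.hom)
    {d : PicF.Cl (PicF.XT h T)} (hd : PicF.IsInvertibleCl d) (v w : baseObj k ⟶ T) :
    PicF.pullCl (PicF.XTmap h v) d = PicF.pullCl (PicF.XTmap h w) d := by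
  let S₀ := Spec (CommRingCat.of k)
  let q := 𝔸(PUnit.{u + 1}; S₀) ↘ S₀
  haveI : Smooth q := H9SectChart.smooth_affineSpace _ _
  haveI : IsLocallyNoetherian Y := LocallyOfFiniteType.isLocallyNoetherian h
  haveI : IsIso (pullback.fst h (baseObj k).hom) :=
    inferInstanceAs (IsIso (pullback.fst h (𝟙 (Spec (CommRingCat.of k)))))
  let e : Y ⟶ PicF.XT h (baseObj k) := inv (pullback.fst h (baseObj k).hom)
  -- it is enough to compare on the smooth locus
  suffices hs : PicF.pullCl e (PicF.pullCl (PicF.XTmap h v) d) = PicF.pullCl e (PicF.pullCl (PicF.XTmap h w) d) by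
    have h2 := congrArg (PicF.pullCl (pullback.fst h (baseObj k).hom)) hs
    simpa only [PicClLib.pullCl_comp, e, IsIso.hom_inv_id_assoc, IsIso.hom_inv_id, PicClLib.pullCl_id,
      Category.id_comp] using h2
  haveI : LocallyOfFinitePresentation h := inferInstance
  refine cl_eq_of_restrict h hY (FppfPic.isInvertibleCl_pull _ (FppfPic.isInvertibleCl_pull _ hd))
    (FppfPic.isInvertibleCl_pull _ (FppfPic.isInvertibleCl_pull _ hd)) ?_
  let U := h.smoothLocus
  let hU : (U : Scheme.{u}) ⟶ S₀ := U.ι ≫ h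
  haveI : Smooth hU := by
    rw [← Scheme.Hom.smoothLocus_eq_top_iff, ← Scheme.Hom.preimage_smoothLocus_eq, Scheme.Opens.ι_preimage_self]
  haveI : Nonempty U := by
    obtain ⟨x, hx⟩ := (Scheme.Hom.dense_smoothLocus_of_perfectField h).nonempty
    exact ⟨⟨x, hx⟩⟩
  haveI : IsLocallyNoetherian (U : Scheme.{u}) := inferInstance
  have hUn : Pi1.IsNormalScheme (U : Scheme.{u}) := fun x => by
    obtain ⟨hdom, hn⟩ := hY x.1
    let ex := (U.stalkIso x).commRingCatIsoToRingEquiv
    exact ⟨ex.toMulEquiv.isDomain, haveI := hn; IsIntegrallyClosed.of_equiv ex.symm⟩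
  let Y' := pullback hU q
  let m : pullback hU T.hom ⟶ Y' := pullback.map hU T.hom hU q (𝟙 _) j (𝟙 _) (by simp) (by simp [q, hj, S₀])
  let m₀ : pullback hU T.hom ⟶ PicF.XT h T := pullback.map hU T.hom h T.hom U.ι (𝟙 _) (𝟙 _) (by simp [hU]) (by simp)
  haveI : IsOpenImmersion m := inferInstance
  haveI : Smooth (pullback.fst hU q ≫ hU) := inferInstance
  haveI : IsLocallyNoetherian Y' := LocallyOfFiniteType.isLocallyNoetherian (pullback.fst hU q ≫ hU)
  obtain ⟨D, hD, hDd⟩ := AbExt.exists_extend_cl m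
    (fun y => (AbExt.ufd_stalk (T := S₀) (fun t => FppfPic.regular_spec t) (pullback.fst hU q ≫ hU) y).2)
    (FppfPic.isInvertibleCl_pull m₀ hd)
  let s : (baseObj k ⟶ T) → ((U : Scheme.{u}) ⟶ pullback hU T.hom) := fun x =>
    pullback.lift (𝟙 _) (hU ≫ x.left) (by
      rw [Category.id_comp, Category.assoc, show x.left ≫ T.hom = 𝟙 _ from Over.w x]; exact (Category.comp_id _).symm)
  have hs : ∀ x : baseObj k ⟶ T, PicF.pullCl U.ι (PicF.pullCl e (PicF.pullCl (PicF.XTmap h x) d)) =
      PicF.pullCl (s x ≫ m) D := fun x => by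
    rw [← PicClLib.pullCl_comp (s x) m, hDd, PicClLib.pullCl_comp, PicClLib.pullCl_comp, PicClLib.pullCl_comp]
    congr 1
    refine pullback.hom_ext ?_ ?_
    · simp only [e, s, m₀, pullback.map, PicF.XTmap, Category.assoc, pullback.lift_fst, pullback.lift_fst_assoc, Category.comp_id, IsIso.inv_hom_id]
      first | exact Category.comp_id _ | exact (Category.id_comp _).symm | rfl
    · have : inv (pullback.fst h (baseObj k).hom) ≫ pullback.snd h (baseObj k).hom = h := by
        rw [IsIso.inv_comp_eq, pullback.condition]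
        exact (Category.comp_id _).symm
      simp [e, s, m₀, pullback.map, PicF.XTmap, hU]
  rw [hs, hs]
  have hsm : ∀ x, (s x ≫ m) ≫ pullback.fst hU q = 𝟙 _ := fun x => by
    rw [Category.assoc]
    show _ ≫ pullback.lift _ _ _ ≫ pullback.fst hU q = _
    rw [pullback.lift_fst, Category.comp_id]
    exact pullback.lift_fst _ _ _
  obtain ⟨N, rfl, hN⟩ := hD
  obtain ⟨iso⟩ := SwanPic.nonempty_iso_pullback hU (isSeminormal_of_normal _ hUn) (s v ≫ m)
    (hsm v) N hN
  have hc : PicF.cl N = PicF.pullCl (pullback.fst hU q) (PicF.pullCl (s v ≫ m) (PicF.cl N)) :=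
    (PicGrp.cl_eq_cl_iff _ _).2 ⟨iso⟩
  conv_rhs => rw [hc]
  rw [PicClLib.pullCl_comp (s w ≫ m) (pullback.fst hU q),
    hsm w, PicClLib.pullCl_id]

variable {X : Scheme.{u}} (f : X ⟶ Spec (CommRingCat.of k)) [IsProper f] {P : Over (Spec (CommRingCat.of k))}
  {φ : ∀ T : Over (Spec (CommRingCat.of k)), PicF.Cl (PicF.XT f T) → (T ⟶ P)}

/-- All rational points of an open subset of the affine line go to the same point of the Picard scheme. -/
theorem pts_eq (hX : Pi1.IsNormalScheme X) (hP : PicRel.IsRelPic f P φ) {T : Over (Spec (CommRingCat.of k))}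
    (j : T.left ⟶ 𝔸(PUnit.{u + 1}; Spec (CommRingCat.of k))) [IsOpenImmersion j]
    (hj : j ≫ (𝔸(PUnit.{u + 1}; Spec (CommRingCat.of k)) ↘ Spec (CommRingCat.of k)) = T.hom)
    (g : T ⟶ P) (v w : baseObj k ⟶ T) : v ≫ g = w ≫ g := by
  haveI : IsSepClosed (IsLocalRing.ResidueField k) :=
    haveI : IsAlgClosed (IsLocalRing.ResidueField k) :=
      IsAlgClosed.of_ringEquiv k (IsLocalRing.ResidueField k) (RingEquiv.ofBijective (IsLocalRing.residue k)
        ⟨(IsLocalRing.residue k).injective, IsLocalRing.residue_surjective⟩)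
    inferInstance
  have hE : RelPicGrp.HasSec (baseObj k).left := RelPicGrp.hasSec_spec k
  obtain ⟨cv, hcv, hφv⟩ := RelPicGrp.exists_cl hP hE (v ≫ g)
  obtain ⟨cw, hcw, hφw⟩ := RelPicGrp.exists_cl hP hE (w ≫ g)
  rw [← hφv, ← hφw]
  congr 1
  haveI : IsLocallyNoetherian X := LocallyOfFiniteType.isLocallyNoetherian f
  haveI : CompactSpace X := QuasiCompact.compactSpace_of_compactSpace f
  haveI : IsNoetherian X := {}
  obtain ⟨I, Z, hcov, hdisj, hZ⟩ := exists_pieces X hX
  let jj : ∀ i, PicF.XT ((Z i).ι ≫ f) (baseObj k) ⟶ PicF.XT f (baseObj k) := fun i => jT f (Z i).ι (baseObj k)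
  have hrange : ∀ i, Set.range (jj i) = pullback.fst f (baseObj k).hom ⁻¹' (Z i : Set X) := fun i => by
    simp only [jj, jT]
    rw [Scheme.Pullback.range_map]
    simp
  haveI : ∀ i, IsOpenImmersion (jj i) := fun i => by simp only [jj, jT]; infer_instance
  refine FppfPic.eq_of_disjoint _ jj (fun y => ?_) (fun a b hab => ?_) hcv hcw fun i => ?_
  · obtain ⟨i, hi⟩ := hcov (pullback.fst f (baseObj k).hom y)
    exact ⟨i, show y ∈ Set.range (jj i) by rw [hrange]; exact hi⟩
  · refine disjoint_iff.2 (Opens.ext ?_)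
    show Set.range (jj a) ∩ Set.range (jj b) = ∅
    rw [hrange, hrange, ← Set.preimage_inter, Set.disjoint_iff_inter_eq_empty.1 (hdisj a b hab), Set.preimage_empty]
  obtain ⟨hcl, hint, hn⟩ := hZ i
  haveI := hcl; haveI := hint
  let h := (Z i).ι ≫ f
  haveI : IsProper h := inferInstance
  haveI : IsIntegral (Over.mk h).left := hint
  haveI : GeometricallyIntegral h := H23.EquidimFibres.geometricallyIntegral_of_isAlgClosed (V := Over.mk h)
  haveI : CompactSpace (Z i : Scheme.{u}) := QuasiCompact.compactSpace_of_compactSpace h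
  haveI : JacobsonSpace (Z i : Scheme.{u}) := LocallyOfFiniteType.jacobsonSpace h
  obtain ⟨x, -, hx⟩ := nonempty_inter_closedPoints (Z := (Set.univ : Set (Z i : Scheme.{u}))) Set.univ_nonempty
    isClosed_univ.isLocallyClosed
  obtain ⟨σ, hσ⟩ := (pointEquivClosedPoint h).symm ⟨x, hx⟩
  have ha : ∀ (T : Over (Spec (CommRingCat.of k))) (U : T.left.Opens), IsIso ((PicF.XTproj h T).app U) := by
    intro T U
    haveI : Surjective h := ⟨fun s => ⟨x, Subsingleton.elim (α := PrimeSpectrum k) _ _⟩⟩
    haveI : IsProper (pullback.snd h T.hom) := MorphismProperty.pullback_snd _ _ inferInstance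
    haveI : Flat h := Deform.AffineKernel.flat_over_field _
    haveI : Flat (pullback.snd h T.hom) := MorphismProperty.pullback_snd _ _ inferInstance
    haveI : Surjective (pullback.snd h T.hom) := MorphismProperty.pullback_snd _ _ inferInstance
    haveI : LocallyOfFinitePresentation h := inferInstance
    haveI : LocallyOfFinitePresentation (pullback.snd h T.hom) := MorphismProperty.pullback_snd _ _ inferInstance
    exact (ConcreteCategory.isIso_iff_bijective _).2
      (GammaDescent.bijective_app (pullback.snd h T.hom)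
        ((H23.RigidApply.constFibres_of_geometricallyIntegral h).baseChange T.hom) U)
  obtain ⟨d, hd⟩ := exists_rig_piece f (Z i).ι hP σ hσ ha T g
  have e1 := hd (baseObj k) hE v cv hcv hφv
  have e2 := hd (baseObj k) hE w cw hcw hφw
  rw [rigify_point] at e1 e2
  rw [← e1, ← e2]
  exact pull_eq_of_line h hn j hj d.2.1 v w

end Groth.Agent.PicAb
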