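import Groth.Agent.PicAb.RedComp
import Groth.Agent.Deform.TorusAlg
import Groth.Agent.GrpSchLib.GaPts
import Mathlib.AlgebraicGeometry.AffineSpace

/-!
# Commutative groups in which open subsets of the affine line are contracted are proper
-/

noncomputable section

set_option autoImplicit false
set_option linter.style.haveILetI false
set_option linter.unusedSectionVars false
set_option backward.isDefEq.respectTransparency false
set_option backward.isDefEq.respectTransparency.types false
set_option maxHeartbeats 1000000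
set_option synthInstance.maxHeartbeats 400000

universe u

open CategoryTheory CategoryTheory.Limits MonoidalCategory CartesianMonoidalCategory MonObj GrpObj AlgebraicGeometry
  Opposite

attribute [local instance] CategoryTheory.Hom.monoid CategoryTheory.Hom.group

namespace Groth.Agent.PicAb

open Deform Deform.Chev
open GrpSchLib.AffineHopf (sp nonempty_DS_iso)

variable {K : Type u} [Field K]

/-- All rational points of an open subset of the affine line have the same image in `G`. -/
def LineConst (G : Over (Spec (CommRingCat.of K))) : Prop :=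
  ∀ (T : Over (Spec (CommRingCat.of K))) (j : T.left ⟶ 𝔸(PUnit.{u + 1}; Spec (CommRingCat.of K))),
    IsOpenImmersion j →
    j ≫ (𝔸(PUnit.{u + 1}; Spec (CommRingCat.of K)) ↘ Spec (CommRingCat.of K)) = T.hom →
    ∀ (g : T ⟶ G) (v w : Over.mk (𝟙 (Spec (CommRingCat.of K))) ⟶ T), v ≫ g = w ≫ g

theorem LineConst.of_mono {G H : Over (Spec (CommRingCat.of K))} (i : H ⟶ G) [Mono i] (h : LineConst G) :
    LineConst H := fun T j hj hj' g v w => by
  rw [← cancel_mono i, Category.assoc, Category.assoc]
  exact h T j hj hj' (g ≫ i) v w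

/-- There is no additive subgroup. -/
theorem LineConst.no_ga {G : Over (Spec (CommRingCat.of K))} [GrpObj G] (h : LineConst G)
    (j : Red.Ga (Spec (CommRingCat.of K)) ⟶ G) (hjc : IsClosedImmersion j.left) : False := by
  haveI := hjc
  haveI : Mono j := (Over.forget _).mono_of_mono_map (inferInstanceAs (Mono j.left))
  let S := Spec (CommRingCat.of K)
  let T : Over S := Over.mk (𝔸(PUnit.{u + 1}; S) ↘ S)
  let t : Γ(T.left, ⊤) := AffineSpace.coord S PUnit.unit
  let a : T ⟶ Red.Ga S := GrpSchLib.GaPts.ptOfFn t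
  let v : Γ(S, ⊤) → (Over.mk (𝟙 S) ⟶ T) := fun c =>
    Over.homMk (AffineSpace.homOfVector (𝟙 S) (fun _ => c)) (AffineSpace.homOfVector_over _ _)
  have hv : ∀ c, Red.gaFn (v c ≫ a) = c := fun c => by
    rw [GrpSchLib.GaPts.gaFn_comp, GrpSchLib.GaPts.gaFn_ptOfFn]
    exact AffineSpace.homOfVector_appTop_coord _ _ _
  have e : v 0 ≫ a = v 1 ≫ a := by
    rw [← cancel_mono j, Category.assoc, Category.assoc]
    exact h T (𝟙 _) inferInstance (Category.id_comp _) (a ≫ j) (v 0) (v 1)
  have e2 := congrArg Red.gaFn e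
  rw [hv, hv] at e2
  haveI : Nontrivial Γ(S, ⊤) := (Scheme.ΓSpecIso (CommRingCat.of K)).commRingCatIsoToRingEquiv.nontrivial
  exact zero_ne_one' Γ(S, ⊤) e2

/-- A split torus of positive rank is not contracted. -/
theorem LineConst.rank_eq_zero [Infinite K] (r : ℕ)
    (h : LineConst (sp K (MonoidAlgebra K (Multiplicative (Fin r → ℤ))))) : r = 0 := by
  by_contra hr
  let i₀ : Fin r := ⟨0, Nat.pos_of_ne_zero hr⟩
  let S := Spec (CommRingCat.of K)
  let A1 := 𝔸(PUnit.{u + 1}; S)
  let M := Multiplicative (Fin r → ℤ)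
  let A := MonoidAlgebra K M
  let U : A1.Opens := A1.basicOpen (AffineSpace.coord S PUnit.unit)
  let T : Over S := Over.mk (U.ι ≫ (A1 ↘ S))
  let t : Γ(T.left, ⊤) := U.ι.appTop (AffineSpace.coord S PUnit.unit)
  have ht : IsUnit t := by
    have h1 : (U : Scheme.{u}).basicOpen t = ⊤ := by
      rw [show (U : Scheme.{u}).basicOpen t = U.ι ⁻¹ᵁ A1.basicOpen (AffineSpace.coord S PUnit.unit) from
        (Scheme.preimage_basicOpen_top U.ι _).symm]
      exact U.ι_preimage_self
    exact (U : Scheme.{u}).toRingedSpace.isUnit_of_isUnit_germ ⊤ t fun x hx =>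
      ((U : Scheme.{u}).mem_basicOpen_top t x).1 (h1.ge trivial)
  let str : K →+* Γ(T.left, ⊤) := T.hom.appTop.hom.comp (Scheme.ΓSpecIso (CommRingCat.of K)).inv.hom
  letI : Algebra K Γ(T.left, ⊤) := str.toAlgebra
  let χ : M →* Γ(T.left, ⊤) :=
    { toFun := fun m => ((ht.unit ^ (Multiplicative.toAdd m i₀) : Γ(T.left, ⊤)ˣ) : Γ(T.left, ⊤))
      map_one' := by simp
      map_mul' := fun a b => by rw [toAdd_mul, Pi.add_apply, zpow_add, Units.val_mul] }
  let φ : CommRingCat.of A ⟶ Γ(T.left, ⊤) := CommRingCat.ofHom (MonoidAlgebra.lift K Γ(T.left, ⊤) M χ).toRingHom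
  let gl : T.left ⟶ Spec (CommRingCat.of A) := ΓSpec.adjunction.homEquiv T.left (op (CommRingCat.of A)) φ.op
  have hgl : ∀ x : A, gl.appTop ((Scheme.ΓSpecIso (CommRingCat.of A)).inv x) = φ x := fun x =>
    congrArg (fun ψ : CommRingCat.of A ⟶ Γ(T.left, ⊤) => ψ x) (ΓSpecIso_inv_ΓSpec_adjunction_homEquiv φ)
  let g : T ⟶ sp K A := Over.homMk gl (by
    refine ext_of_isAffine ?_
    rw [Scheme.Hom.comp_appTop]
    refine CommRingCat.hom_ext (RingHom.ext fun c => ?_)
    obtain ⟨c, rfl⟩ := (Scheme.ΓSpecIso (CommRingCat.of K)).commRingCatIsoToRingEquiv.symm.surjective c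
    show gl.appTop ((Spec.map (CommRingCat.ofHom (algebraMap K A))).appTop
      ((Scheme.ΓSpecIso (CommRingCat.of K)).inv c)) = T.hom.appTop ((Scheme.ΓSpecIso (CommRingCat.of K)).inv c)
    have hn := congrArg (fun ψ : CommRingCat.of K ⟶ Γ(Spec (CommRingCat.of A), ⊤) => ψ c)
      (Scheme.ΓSpecIso_inv_naturality (CommRingCat.ofHom (algebraMap K A)))
    erw [← hn]
    erw [hgl]
    exact (MonoidAlgebra.lift K Γ(T.left, ⊤) M χ).commutes c)
  let hom : Γ(S, ⊤) → (S ⟶ A1) := fun c => AffineSpace.homOfVector (𝟙 S) (fun _ => c)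
  have hmem : ∀ c, IsUnit c → Set.range (hom c) ⊆ Set.range U.ι := fun c hc => by
    rw [Scheme.Opens.range_ι]
    rintro _ ⟨s, rfl⟩
    show s ∈ hom c ⁻¹ᵁ A1.basicOpen (AffineSpace.coord S PUnit.unit)
    rw [Scheme.preimage_basicOpen_top, show (hom c).appTop (AffineSpace.coord S PUnit.unit) = c from
      AffineSpace.homOfVector_appTop_coord _ _ _, S.basicOpen_of_isUnit hc]
    trivial
  let v : ∀ c, IsUnit c → (Over.mk (𝟙 S) ⟶ T) := fun c hc =>
    Over.homMk (IsOpenImmersion.lift U.ι (hom c) (hmem c hc)) (by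
      show _ ≫ U.ι ≫ (A1 ↘ S) = 𝟙 S
      rw [IsOpenImmersion.lift_fac_assoc]
      exact AffineSpace.homOfVector_over _ _)
  have hv : ∀ c hc, (v c hc).left.appTop t = c := fun c hc => by
    show (U.ι.appTop ≫ (v c hc).left.appTop) _ = c
    rw [← Scheme.Hom.comp_appTop, show (v c hc).left ≫ U.ι = hom c from IsOpenImmersion.lift_fac _ _ _]
    exact AffineSpace.homOfVector_appTop_coord _ _ _
  let e : A := MonoidAlgebra.single (Multiplicative.ofAdd (Pi.single i₀ 1)) 1
  have he : φ e = t := by
    show MonoidAlgebra.lift K Γ(T.left, ⊤) M χ e = t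
    rw [MonoidAlgebra.lift_single, one_smul]
    simp [χ]
  have hkey : ∀ c hc, (v c hc ≫ g).left.appTop ((Scheme.ΓSpecIso (CommRingCat.of A)).inv e) = c := fun c hc => by
    show (gl.appTop ≫ (v c hc).left.appTop) _ = c
    rw [ConcreteCategory.comp_apply]
    erw [hgl, he]
    exact hv c hc
  let ρ := (Scheme.ΓSpecIso (CommRingCat.of K)).commRingCatIsoToRingEquiv
  obtain ⟨c, hc0⟩ := ((Set.toFinite ({0, 1} : Set K)).infinite_compl).nonempty
  have hc : c ≠ 0 ∧ c ≠ 1 := by simpa [not_or] using hc0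
  have hu : IsUnit (ρ.symm c) := (Ne.isUnit hc.1).map ρ.symm
  have heq := h T U.ι inferInstance rfl g (v 1 isUnit_one) (v _ hu)
  have := congrArg (fun m : Over.mk (𝟙 S) ⟶ sp K A => m.left.appTop ((Scheme.ΓSpecIso (CommRingCat.of A)).inv e)) heq
  simp only [hkey] at this
  exact hc.2 (ρ.symm.injective (this.symm.trans (map_one ρ.symm).symm))

variable [IsAlgClosed K]

/-- A connected commutative group contracting open subsets of the affine line is proper. -/
theorem LineConst.isProper {G : Over (Spec (CommRingCat.of K))} [GrpObj G] [IsCommMonObj G]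
    [LocallyOfFiniteType G.hom] [QuasiCompact G.hom] [ConnectedSpace G.left] (h : LineConst G) : IsProper G.hom := by
  obtain ⟨R, iR, i, hi, hic, hRr, his, hRl, hRq⟩ := GrpSchLib.RedSubgroup.exists_redSubgroup G
  letI := iR
  haveI := hi; haveI := hic; haveI := hRr; haveI := his; haveI := hRl; haveI := hRq
  haveI : Mono i := (Over.forget _).mono_of_mono_map (inferInstanceAs (Mono i.left))
  haveI : Smooth R.hom := GrpSchLib.smooth_of_isReduced_of_isAlgClosed R
  haveI : ConnectedSpace R.left := by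
    have e : ↥R.left ≃ₜ ↥G.left := (isHomeomorph_iff_isEmbedding_surjective.mpr
      ⟨i.left.isClosedEmbedding.isEmbedding, i.left.surjective⟩).homeomorph _
    exact e.symm.surjective.connectedSpace e.symm.continuous
  haveI : IsCommMonObj R := Deform.Extension.isCommMonObj_of fun T x y => by
    rw [← cancel_mono i, MonObj.mul_comp, MonObj.mul_comp, Deform.Extension.mul_comm_of (x ≫ i)]
  have hR : LineConst R := h.of_mono i
  obtain ⟨T, iT, t, A, iA, q, ht, htc, hT, hq, hqs, hqf, hk, hA, hAs, hAc⟩ :=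
    NeronComp.NoGa.isSemiAb R (fun j _ hjc => hR.no_ga j hjc)
  letI := iT; letI := iA
  haveI := ht; haveI := htc; haveI := hq; haveI := hqs; haveI := hqf; haveI := hA; haveI := hAs
  haveI : Mono t := (Over.forget _).mono_of_mono_map (inferInstanceAs (Mono t.left))
  obtain ⟨r, ⟨e⟩⟩ := Deform.exists_split T hT
  obtain ⟨d⟩ := nonempty_DS_iso K (Fin r → ℤ)
  let ψ := (d ≪≫ e.symm).hom.hom.hom
  haveI : IsIso ψ := ((Grp.forget _).mapIso (d ≪≫ e.symm)).isIso_hom
  obtain rfl := ((hR.of_mono t).of_mono ψ).rank_eq_zero r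
  haveI : IsIso (sp K (MonoidAlgebra K (Multiplicative (Fin 0 → ℤ)))).hom := by
    let α := (MonoidAlgebra.uniqueRingEquiv (R := K) (Multiplicative (Fin 0 → ℤ)))
    haveI : IsIso (CommRingCat.ofHom (algebraMap K (MonoidAlgebra K (Multiplicative (Fin 0 → ℤ))))) := by
      rw [ConcreteCategory.isIso_iff_bijective]
      have he : (α.symm : K → _) = algebraMap K (MonoidAlgebra K (Multiplicative (Fin 0 → ℤ))) :=
        funext fun c => by simp [α, MonoidAlgebra.uniqueRingEquiv_symm_apply]
      show Function.Bijective (algebraMap K _)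
      rw [← he]
      exact α.symm.bijective
    exact inferInstanceAs (IsIso (Spec.map (CommRingCat.ofHom (algebraMap K _))))
  haveI : IsIso ψ.left := ((Grp.forget _ ⋙ Over.forget _).mapIso (d ≪≫ e.symm)).isIso_hom
  haveI : IsIso T.hom := by
    haveI : IsIso (ψ.left ≫ T.hom) := by rw [Over.w ψ]; infer_instance
    exact IsIso.of_isIso_comp_left ψ.left T.hom
  have hsub : ∀ (W : Over (Spec (CommRingCat.of K))) (x y : W ⟶ T), x = y := fun W x y =>
    Over.OverMorphism.ext (by rw [← cancel_mono T.hom, Over.w x, Over.w y])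
  haveI : Mono q := by
    refine ⟨fun {W} a b hab => ?_⟩
    have h1 : (a * b⁻¹) ≫ q = 1 := by rw [MonObj.mul_comp, GrpObj.inv_comp, hab, mul_inv_cancel]
    obtain ⟨n, hn⟩ := exists_lift_kernel t q hk _ h1
    rw [hsub W n 1, MonObj.one_comp] at hn
    exact mul_inv_eq_one.mp hn.symm
  haveI : QuasiCompact q.left := quasiCompact_of_grp q
  haveI : IsClosedImmersion q.left := S3036.result K R A q
  haveI : IsReduced A.left := GrpSchLib.isReduced_of_smooth_field A.hom
  haveI : IsIso q.left := isIso_of_isClosedImmersion_of_surjective q.left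
  haveI : IsProper R.hom := by rw [← Over.w q]; infer_instance
  exact SemiAbExt.isProper_of_surjective i

end Groth.Agent.PicAb
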