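import Groth.Agent.PicAb.Const
import Groth.Agent.PicAb.Proper
import Groth.Agent.RelPicGrp.Basic
import Groth.Agent.S17906
import Groth.Agent.EtFound.Descent

/-!
# The identity component of the Picard scheme of a geometrically normal proper variety
-/

noncomputable section

set_option autoImplicit false
set_option linter.style.haveILetI false
set_option linter.unusedSectionVars false
set_option backward.isDefEq.respectTransparency false
set_option backward.isDefEq.respectTransparency.types false
set_option maxHeartbeats 1000000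
set_option synthInstance.maxHeartbeats 400000
attribute [-instance] CategoryTheory.catToReflQuiver

universe u

open CategoryTheory CategoryTheory.Limits MonoidalCategory CartesianMonoidalCategory MonObj AlgebraicGeometry

attribute [local instance] CategoryTheory.Hom.monoid CategoryTheory.Hom.group

namespace Groth.Agent.PicAb

variable {k : Type u} [Field k] {X : Scheme.{u}} (f : X ⟶ Spec (CommRingCat.of k)) [IsProper f]
  (hnorm : ∀ (k' : Type u) [Field k'] [Algebra k k'], Module.Finite k k' →
    Pi1.IsNormalScheme (pullback f (Spec.map (CommRingCat.ofHom (algebraMap k k')))))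
  {P : Over (Spec (CommRingCat.of k))} [LocallyOfFiniteType P.hom]
  {φ : ∀ T : Over (Spec (CommRingCat.of k)), PicF.Cl (PicF.XT f T) → (T ⟶ P)} (hP : PicRel.IsRelPic f P φ)

include hnorm hP in
/-- Over an algebraically closed extension the Picard scheme contracts open subsets of the affine line. -/
theorem lineConst_bc {K : Type u} [Field K] [IsAlgClosed K] (σ : Spec (CommRingCat.of K) ⟶ Spec (CommRingCat.of k)) :
    LineConst (Red.bc σ P) := by
  obtain ⟨ψ, rfl⟩ := Spec.map_surjective σ
  letI : Algebra k K := ψ.hom.toAlgebra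
  haveI : IsProper (pullback.snd f (Spec.map ψ)) := MorphismProperty.pullback_snd _ _ inferInstance
  have hN : Pi1.IsNormalScheme (pullback f (Spec.map ψ)) := isNormalScheme_bc f hnorm K
  have hP' := Groth.Agent.S17906.result f (Spec.map ψ) P φ hP
  intro T j hj hj' g v w
  haveI := hj
  exact pts_eq (pullback.snd f (Spec.map ψ)) hN hP' j hj' g v w

include hnorm hP in
/-- The Picard scheme has unipotent rank zero. -/
theorem unipotentRankZero (pt : ↥(Spec (CommRingCat.of k))) :
    letI := RelPicGrp.grpObj hP
    SGA7.FibreUnipotentRankZero pt P := by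
  letI := RelPicGrp.grpObj hP
  intro j _ hjc
  exact (lineConst_bc f hnorm hP (Red.geomPt pt)).no_ga j hjc

include hnorm hP in
/-- The identity component of the Picard scheme is proper. -/
theorem exists_proper_component :
    letI := RelPicGrp.grpObj hP
    ∃ (G₀ : Over (Spec (CommRingCat.of k))) (c : G₀ ⟶ P), IsClosedImmersion c.left ∧ IsOpenImmersion c.left ∧
      IsProper G₀.hom ∧ Set.range c.left = connectedComponent (η[P].left (IsLocalRing.closedPoint k)) := by
  letI := RelPicGrp.grpObj hP
  haveI : IsCommMonObj P := Deform.Extension.isCommMonObj_of fun T x y => by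
    rw [RelPicGrp.mul_eq hP, RelPicGrp.mul_eq hP, RelPicGrp.mulPt_comm hP]
  obtain ⟨G₀, iG₀, c, hc, hcc, hcf, hcr, hgi, hGc⟩ := GrpSchLib.exists_identityComponent (G := P)
  letI := iG₀
  haveI := hc; haveI := hcc; haveI := hcf; haveI := hgi; haveI := hGc
  haveI : IsLocallyNoetherian P.left := LocallyOfFiniteType.isLocallyNoetherian P.hom
  haveI : IsOpenImmersion c.left := IsOpenImmersion.of_flat_of_mono c.left
  haveI : LocallyOfFiniteType G₀.hom := by rw [← Over.w c]; infer_instance
  haveI : QuasiCompact G₀.hom := (quasiCompact_iff_compactSpace G₀.hom).mpr hGc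
  haveI : IrreducibleSpace G₀.left := GeometricallyIrreducible.irreducibleSpace G₀.hom G₀.hom.isOpenMap
  haveI : Mono c := (Over.forget _).mono_of_mono_map (inferInstanceAs (Mono c.left))
  haveI : IsCommMonObj G₀ := Deform.Extension.isCommMonObj_of fun T x y => by
    rw [← cancel_mono c, MonObj.mul_comp, MonObj.mul_comp, Deform.Extension.mul_comm_of (x ≫ c)]
  refine ⟨G₀, c, hcc, inferInstance, ?_, hcr⟩
  let φ₀ : CommRingCat.of k ⟶ CommRingCat.of (AlgebraicClosure k) :=
    CommRingCat.ofHom (algebraMap k (AlgebraicClosure k))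
  let σ := Spec.map φ₀
  haveI : ConnectedSpace (Red.bc σ G₀).left := GrpSchLib.AntiAffine.connectedSpace_bc G₀ φ₀.hom
  haveI : LocallyOfFiniteType (Red.bc σ G₀).hom := inferInstanceAs (LocallyOfFiniteType (pullback.snd G₀.hom σ))
  haveI : QuasiCompact (Red.bc σ G₀).hom := inferInstanceAs (QuasiCompact (pullback.snd G₀.hom σ))
  haveI : IsCommMonObj (Red.bc σ G₀) := Deform.Extension.isCommMonObj_of fun T =>
    Deform.Extension.comm_bc σ (fun T => Deform.Extension.mul_comm_of) T
  haveI : IsClosedImmersion ((Over.pullback σ).map c).left :=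
    MorphismProperty.overPullbackMap (P := @IsClosedImmersion) _ c hcc
  haveI : Mono ((Over.pullback σ).map c) :=
    (Over.forget _).mono_of_mono_map (inferInstanceAs (Mono ((Over.pullback σ).map c).left))
  have hprop : IsProper (Red.bc σ G₀).hom :=
    ((lineConst_bc f hnorm hP σ).of_mono ((Over.pullback σ).map c)).isProper
  haveI : Surjective σ := ⟨fun x => ⟨IsLocalRing.closedPoint _, Subsingleton.elim (α := PrimeSpectrum k) _ _⟩⟩
  haveI : Flat σ := Deform.AffineKernel.flat_over_field _
  have hσ : (@Surjective ⊓ @Flat ⊓ @QuasiCompact : MorphismProperty Scheme.{u}) σ :=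
    ⟨⟨inferInstance, inferInstance⟩, inferInstance⟩
  haveI := EtFound.fpqc_isProper.{u}
  exact MorphismProperty.of_isPullback_of_descendsAlong (P := @IsProper)
    (IsPullback.of_hasPullback G₀.hom σ).flip hσ hprop

/-- The unit is the class of the structure sheaf. -/
theorem unit_eq :
    letI := RelPicGrp.grpObj hP
    φ (Over.mk (𝟙 _)) (PicF.cl (Coh.structureModule _)) = η[P] := by
  letI := RelPicGrp.grpObj hP
  rw [MonObj.one_eq_one, RelPicGrp.one_eq hP]
  rfl

include hnorm hP in
theorem exists_open_proper (pt : ↥(Spec (CommRingCat.of k))) :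
    ∃ U : P.left.Opens, (U : Set ↥P.left) =
        connectedComponent ((φ (Over.mk (𝟙 _)) (PicF.cl (Coh.structureModule _))).left.base pt) ∧
      IsProper (U.ι ≫ P.hom) := by
  letI := RelPicGrp.grpObj hP
  obtain ⟨G₀, c, -, hco, hp, hr⟩ := exists_proper_component f hnorm hP
  haveI := hco; haveI := hp
  rw [unit_eq f hP, Subsingleton.elim (α := PrimeSpectrum k) pt (IsLocalRing.closedPoint k)]
  refine ⟨c.left.opensRange, hr, ?_⟩
  haveI : IsProper ((c.left.isoOpensRange).inv ≫ G₀.hom) := inferInstance
  rwa [show c.left.opensRange.ι ≫ P.hom = c.left.isoOpensRange.inv ≫ G₀.hom by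
    rw [← Over.w c, ← Category.assoc, ← c.left.isoOpensRange_inv_comp]]

include hnorm hP in
theorem exists_smooth_proper (pt : ↥(Spec (CommRingCat.of k))) :
    ∃ (A : Scheme.{u}) (i : A ⟶ P.left), IsClosedImmersion i ∧ Smooth (i ≫ P.hom) ∧ IsProper (i ≫ P.hom) ∧
      Set.range i.base = connectedComponent ((φ (Over.mk (𝟙 _)) (PicF.cl (Coh.structureModule _))).left.base pt) := by
  letI := RelPicGrp.grpObj hP
  haveI : IsCommMonObj P := Deform.Extension.isCommMonObj_of fun T x y => by
    rw [RelPicGrp.mul_eq hP, RelPicGrp.mul_eq hP, RelPicGrp.mulPt_comm hP]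
  obtain ⟨H, iH, i, -, hic, hH, -, hir⟩ := exists_smooth_component P pt (unipotentRankZero f hnorm hP pt)
  obtain ⟨G₀, c, hcc, -, hp, hr⟩ := exists_proper_component f hnorm hP
  haveI := hic; haveI := hH; haveI := hcc; haveI := hp
  rw [unit_eq f hP]
  refine ⟨H.left, i.left, hic, by rw [Over.w i]; exact hH, ?_, hir⟩
  haveI : IsReduced H.left := GrpSchLib.isReduced_of_smooth_field H.hom
  obtain ⟨g, hg⟩ := Deform.Chev.exists_lift_range c i (by
    rw [hr, hir, Subsingleton.elim (α := PrimeSpectrum k) pt (IsLocalRing.closedPoint k)])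
  haveI : IsClosedImmersion g.left := by
    haveI : IsClosedImmersion (g.left ≫ c.left) := by rw [← Over.comp_left, hg]; exact hic
    exact IsClosedImmersion.of_comp g.left c.left
  rw [Over.w i, ← Over.w g]
  infer_instance

end Groth.Agent.PicAb
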