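import Groth.Agent.S1561
import Groth.Agent.S2102
import Groth.Agent.S9821
import Groth.Agent.ParaFX.Ufd
import Groth.Agent.H23.PullPush
import Groth.Agent.HTopAwn.Restrict
import Groth.Agent.GeomNormCrit.Basic
import Groth.Agent.EtNorm.Dedekind
import Groth.Agent.CDiv6.Normal
import Groth.Agent.FppfPic.Sigma
import Groth.Agent.CurveEmbed.Equiv

/-!
# Invertible classes on normal varieties
-/

noncomputable section

set_option autoImplicit false
set_option linter.style.haveILetI false
set_option linter.unusedSectionVars false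
set_option backward.isDefEq.respectTransparency false
set_option backward.isDefEq.respectTransparency.types false
set_option maxHeartbeats 1000000
set_option synthInstance.maxHeartbeats 400000
attribute [-instance] CategoryTheory.catToReflQuiver

universe u

open CategoryTheory CategoryTheory.Limits AlgebraicGeometry TopologicalSpace Opposite
open scoped TensorProduct

namespace Groth.Agent.PicAb

open Groth.Agent

/-- A normal local ring which is not regular has depth at least two. -/
theorem two_le_depth_of_not_regular (A : Type u) [CommRing A] [IsLocalRing A] [IsNoetherianRing A] [IsDomain A]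
    [IsIntegrallyClosed A] (h : ¬ IsRegularLocalRing A) : (2 : ℕ∞) ≤ LocCoh.depth A A := by
  refine ParaFX.two_le_depth_of_normal A ?_
  by_contra hlt
  apply h
  by_cases hF : IsField A
  · letI := hF.toField
    infer_instance
  · obtain ⟨n, hn⟩ : ∃ n : ℕ, ringKrullDim A = n := by
      obtain ⟨n, hn⟩ := ENat.ne_top_iff_exists.1 (show (ringKrullDim A).unbot ringKrullDim_ne_bot ≠ ⊤ from fun e => by
        have := ringKrullDim_ne_top (R := A)
        apply this
        rw [← WithBot.coe_unbot (ringKrullDim A) ringKrullDim_ne_bot, e]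
        rfl)
      refine ⟨n, ?_⟩
      rw [← WithBot.coe_unbot (ringKrullDim A) ringKrullDim_ne_bot, ← hn]
      rfl
    rw [hn] at hlt
    have h0 : ringKrullDim A ≠ 0 := fun e => hF <| by
      haveI : Ring.KrullDimLE 0 A := Ring.krullDimLE_iff.2 e.le
      exact Ring.KrullDimLE.isField_of_isDomain
    haveI : IsDiscreteValuationRing A := by
      refine CDiv6.isDVR_of_dim_eq_one A ?_
      rw [hn] at h0 ⊢
      norm_cast at h0 hlt ⊢
      omega
    infer_instance

/-- An integrally closed domain is seminormal. -/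
theorem isSeminormalRing_of_isIntegrallyClosed (A : Type u) [CommRing A] [IsDomain A] [IsIntegrallyClosed A] :
    HTop.IsSeminormalRing A := by
  intro x y h
  by_cases hx : x = 0
  · subst hx
    have hy : y = 0 := by
      rw [zero_pow (by norm_num)] at h
      exact sq_eq_zero_iff.1 h.symm
    exact ⟨0, by simp [hy], fun a ha => sq_eq_zero_iff.1 ha.1.symm⟩
  let K := FractionRing A
  let ix := algebraMap A K x
  let iy := algebraMap A K y
  have hx' : ix ≠ 0 := fun e => hx (IsFractionRing.injective A K (e.trans (map_zero _).symm))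
  have h' : ix ^ 3 = iy ^ 2 := by
    show (algebraMap A K x) ^ 3 = (algebraMap A K y) ^ 2
    rw [← map_pow, ← map_pow, h]
  have hsq : (iy / ix) ^ 2 = ix := by rw [div_pow, ← h', pow_succ, mul_div_cancel_left₀ _ (pow_ne_zero 2 hx')]
  obtain ⟨a, ha⟩ := IsIntegrallyClosed.algebraMap_eq_of_integral (R := A) (K := K)
    (IsIntegral.of_pow (n := 2) two_pos (by rw [hsq]; exact isIntegral_algebraMap))
  have h2 : x = a ^ 2 := IsFractionRing.injective A K (by rw [map_pow, ha, hsq])
  refine ⟨a, ⟨h2, IsFractionRing.injective A K ?_⟩, fun b hb => ?_⟩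
  · rw [map_pow, ha, pow_succ, hsq, mul_div_cancel₀ _ hx']
  · apply IsFractionRing.injective A K
    rw [ha, eq_div_iff hx']
    show _ * algebraMap A K x = algebraMap A K y
    rw [← map_mul]
    congr 1
    rw [hb.1, hb.2]; ring

/-- Normal integral schemes are seminormal. -/
theorem isSeminormal_of_normal (X : Scheme.{u}) [IsIntegral X] (hX : Pi1.IsNormalScheme X) : HTop.IsSeminormal X := by
  intro x
  obtain ⟨_, ⟨U, hU, rfl⟩, hxU, -⟩ :=
    X.isBasis_affineOpens.exists_subset_of_mem_open (Set.mem_univ x) isOpen_univ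
  haveI : Nonempty U := ⟨⟨x, hxU⟩⟩
  haveI := (S9821.result X).1 hX U hU
  exact ⟨⟨U, hU⟩, hxU, isSeminormalRing_of_isIntegrallyClosed _⟩

variable {k : Type u} [Field k]

/-- An invertible class on a normal variety is determined by its restriction to the smooth locus. -/
theorem cl_eq_of_restrict [PerfectField k] {X : Scheme.{u}} (f : X ⟶ Spec (CommRingCat.of k))
    [LocallyOfFinitePresentation f] (hX : Pi1.IsNormalScheme X) {a b : PicF.Cl X} (ha : PicF.IsInvertibleCl a)
    (hb : PicF.IsInvertibleCl b) (h : PicF.pullCl f.smoothLocus.ι a = PicF.pullCl f.smoothLocus.ι b) : a = b := by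
  obtain ⟨L, rfl, hL⟩ := ha
  obtain ⟨M, rfl, hM⟩ := hb
  haveI : ∀ x : X, _root_.IsReduced (X.presheaf.stalk x) := fun x => by haveI := (hX x).1; infer_instance
  haveI : IsReduced X := isReduced_of_isReduced_stalk X
  haveI : IsLocallyNoetherian X := LocallyOfFiniteType.isLocallyNoetherian f
  letI : X.Over (Spec (CommRingCat.of k)) := ⟨f⟩
  haveI : LocallyOfFinitePresentation (X ↘ Spec (CommRingCat.of k)) := ‹_›
  let U := f.smoothLocus
  have hd : ∀ x : X, x ∉ U → (2 : ℕ∞) ≤ LocCoh.depth (X.presheaf.stalk x) (X.presheaf.stalk x) := fun x hx => by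
    haveI := (hX x).1; haveI := (hX x).2
    exact two_le_depth_of_not_regular _ fun hr => hx (((S1561.result k X).1 x).2 hr)
  have hj : ParaFX.FnBij U.ι := fun O => by
    have := Hartogs.restrict_bijective U hd O
    have e : O ⊓ U.ι.opensRange = O ⊓ U := by rw [Scheme.Opens.opensRange_ι]
    rw [← ConcreteCategory.isIso_iff_bijective] at this ⊢
    haveI := this
    rw [show (homOfLE (inf_le_left : O ⊓ U.ι.opensRange ≤ O)).op =
      (homOfLE (inf_le_left : O ⊓ U ≤ O)).op ≫ (homOfLE e.le).op from rfl, X.presheaf.map_comp]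
    haveI : IsIso ((homOfLE e.le).op) := by
      refine ⟨(homOfLE e.ge).op, ?_, ?_⟩ <;> exact Subsingleton.elim _ _
    infer_instance
  have s : ∀ {N : X.Modules}, PicF.IsInvertible N → ParaFX.SectBij U.ι N := fun hN =>
    ParaFX.sectBij_of_isFinLocFree hj (H23.PullPush.isFinLocFree_of_isInvertible hN)
  obtain ⟨e⟩ := (PicGrp.cl_eq_cl_iff _ _).1 h
  exact (PicGrp.cl_eq_cl_iff _ _).2 (ParaFX.nonempty_iso_of_restrict U.ι (s hL) (s hM)
    ((Scheme.Modules.restrictFunctorIsoPullback U.ι).app L ≪≫ e ≪≫
      ((Scheme.Modules.restrictFunctorIsoPullback U.ι).app M).symm))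

/-- A noetherian normal scheme is the disjoint union of its irreducible components, which are open,
normal and integral. -/
theorem exists_pieces (X : Scheme.{u}) [IsNoetherian X] (hX : Pi1.IsNormalScheme X) :
    ∃ (I : Type u) (Z : I → X.Opens), (∀ x, ∃ i, x ∈ Z i) ∧ (∀ a b, a ≠ b → Disjoint (Z a : Set X) (Z b)) ∧
      ∀ i, IsClosedImmersion (Z i).ι ∧ IsIntegral (Z i : Scheme.{u}) ∧ Pi1.IsNormalScheme (Z i : Scheme.{u}) := by
  haveI : ∀ x : X, _root_.IsReduced (X.presheaf.stalk x) := fun x => by haveI := (hX x).1; infer_instance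
  haveI : IsReduced X := isReduced_of_isReduced_stalk X
  have hop : ∀ Z ∈ irreducibleComponents X, IsOpen Z := fun Z hZ => SchTop.isOpen_component_of_finite (X := X)
    TopologicalSpace.NoetherianSpace.finite_irreducibleComponents (fun x => (hX x).1) hZ
  refine ⟨irreducibleComponents X, fun Z => ⟨Z.1, hop _ Z.2⟩, fun x => ?_, fun a b hab => ?_, fun Z => ?_⟩
  · exact ⟨⟨_, irreducibleComponent_mem_irreducibleComponents x⟩, mem_irreducibleComponent⟩
  · rw [Set.disjoint_iff_inter_eq_empty]
    by_contra hne
    obtain ⟨z, hza, hzb⟩ := Set.nonempty_iff_ne_empty.2 hne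
    have key : ∀ a b : irreducibleComponents X, z ∈ a.1 → z ∈ b.1 → a.1 ⊆ b.1 := fun a b ha hb =>
      (subset_closure_inter_of_isPreirreducible_of_isOpen a.2.1.2 (hop _ b.2) ⟨z, ha, hb⟩).trans
        (closure_minimal Set.inter_subset_right (isClosed_of_mem_irreducibleComponents _ b.2))
    exact hab (Subtype.ext ((key a b hza hzb).antisymm (key b a hzb hza)))
  · let U : X.Opens := ⟨Z.1, hop _ Z.2⟩
    haveI : IrreducibleSpace (U : Scheme.{u}) := Subtype.irreducibleSpace Z.2.1
    refine ⟨?_, ?_, fun x => ?_⟩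
    · haveI : IsClosedImmersion U.ι := IsClosedImmersion.of_isPreimmersion U.ι (by
        rw [Scheme.Opens.range_ι]; exact isClosed_of_mem_irreducibleComponents _ Z.2)
      assumption
    · exact isIntegral_of_irreducibleSpace_of_isReduced _
    · obtain ⟨hd, hn⟩ := hX x.1
      let e := (U.stalkIso x).commRingCatIsoToRingEquiv
      exact ⟨e.toMulEquiv.isDomain, haveI := hn; IsIntegrallyClosed.of_equiv e.symm⟩

theorem isNormalRing_of_openImmersion (B : Type u) [CommRing B] {Y : Scheme.{u}} (j : Spec (CommRingCat.of B) ⟶ Y) [IsOpenImmersion j]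
    (hY : Pi1.IsNormalScheme Y) : EGA4.IsNormalRing B := by
  intro P _
  let p : PrimeSpectrum B := ⟨P, inferInstance⟩
  letI : Algebra B ((Spec (CommRingCat.of B)).presheaf.stalk p) := inferInstanceAs (Algebra B ((Spec.structureSheaf B).presheaf.stalk p))
  haveI : IsLocalization.AtPrime ((Spec (CommRingCat.of B)).presheaf.stalk p) p.asIdeal :=
    StructureSheaf.IsLocalization.to_stalk B p
  let e : (Spec (CommRingCat.of B)).presheaf.stalk p ≃+* Localization.AtPrime P :=
    (IsLocalization.algEquiv p.asIdeal.primeCompl ((Spec (CommRingCat.of B)).presheaf.stalk p)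
      (Localization.AtPrime p.asIdeal)).toRingEquiv
  let e' : Y.presheaf.stalk (j p) ≃+* Localization.AtPrime P :=
    ((asIso (j.stalkMap p)).commRingCatIsoToRingEquiv).trans e
  obtain ⟨hd, hn⟩ := hY (j p)
  exact ⟨e'.symm.toMulEquiv.isDomain, haveI := hn; IsIntegrallyClosed.of_equiv e'⟩

/-- A scheme normal after every finite extension is normal after every extension. -/
theorem isNormalScheme_bc {X : Scheme.{u}} (f : X ⟶ Spec (CommRingCat.of k))
    (hnorm : ∀ (k' : Type u) [Field k'] [Algebra k k'], Module.Finite k k' →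
      Pi1.IsNormalScheme (pullback f (Spec.map (CommRingCat.ofHom (algebraMap k k')))))
    (K : Type u) [Field K] [Algebra k K] :
    Pi1.IsNormalScheme (pullback f (Spec.map (CommRingCat.ofHom (algebraMap k K)))) := by
  intro y
  let π := fun (L : Type u) (_ : Field L) (_ : Algebra k L) => Spec.map (CommRingCat.ofHom (algebraMap k L))
  obtain ⟨_, ⟨U, hU, rfl⟩, hxU, -⟩ := X.isBasis_affineOpens.exists_subset_of_mem_open
    (Set.mem_univ (pullback.fst f (π K _ _) y)) isOpen_univ
  replace hU : IsAffineOpen U := hU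
  let ψ : CommRingCat.of k ⟶ Γ(X, U) := Spec.preimage (hU.fromSpec ≫ f)
  letI : Algebra k Γ(X, U) := ψ.hom.toAlgebra
  let a := Spec.map (CommRingCat.ofHom (algebraMap k Γ(X, U)))
  have ha : a = hU.fromSpec ≫ f := Spec.map_preimage _
  let j : ∀ (L : Type u) (hL : Field L) (hA : Algebra k L),
      Spec (CommRingCat.of (L ⊗[k] Γ(X, U))) ⟶ pullback f (π L hL hA) := fun L hL hA =>
    (pullbackSpecIso k L Γ(X, U)).inv ≫ (pullbackSymmetry _ _).hom ≫
      pullback.map a (π L hL hA) f (π L hL hA) hU.fromSpec (𝟙 _) (𝟙 _) (by rw [Category.comp_id, ha])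
        (by rw [Category.comp_id, Category.id_comp])
  have hj : ∀ (L : Type u) (hL : Field L) (hA : Algebra k L), IsOpenImmersion (j L hL hA) := fun L hL hA => by
    haveI : IsOpenImmersion (pullback.map a (π L hL hA) f (π L hL hA) hU.fromSpec (𝟙 _) (𝟙 _)
        (by rw [Category.comp_id, ha]) (by rw [Category.comp_id, Category.id_comp])) :=
      inferInstance
    infer_instance
  have hring : EGA4.IsNormalRing (K ⊗[k] Γ(X, U)) :=
    GeomNormCrit.isNormalRing_tensor_of_insep k Γ(X, U) (fun k' _ _ hk' _ =>
      haveI := hj k' inferInstance inferInstance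
      isNormalRing_of_openImmersion (k' ⊗[k] Γ(X, U)) (j k' inferInstance inferInstance)
        (hnorm k' hk')) K
  haveI := hj K inferInstance inferInstance
  obtain ⟨z, hz⟩ : y ∈ Set.range (j K inferInstance inferInstance) := by
    simp only [j]
    rw [← Category.assoc, Scheme.Hom.comp_base, TopCat.coe_comp,
      Set.range_comp, Set.range_eq_univ.2 ((pullbackSpecIso k K Γ(X, U)).inv ≫ (pullbackSymmetry _ _).hom).surjective,
      Set.image_univ, Scheme.Pullback.range_map]
    refine ⟨?_, by simp⟩
    exact Set.mem_preimage.2 (hU.range_fromSpec.ge hxU)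
  obtain ⟨hd, hn⟩ := EtNorm.isNormalScheme_spec (CommRingCat.of (K ⊗[k] Γ(X, U))) hring z
  let e := (asIso ((j K inferInstance inferInstance).stalkMap z)).commRingCatIsoToRingEquiv
  subst hz
  exact ⟨e.toMulEquiv.isDomain, haveI := hn; IsIntegrallyClosed.of_equiv e.symm⟩

end Groth.Agent.PicAb
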