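import Groth.Agent.Deform.Chev.FrobReduce
import Groth.Agent.Deform.PowTorus
import Groth.Agent.NeronComp.NoGaPow
import Groth.Agent.GrpSchLib.RedSubgroup
import Groth.Agent.GrpSchLib.KernelGrp
import Groth.Agent.GrpSchLib.IdentityComp
import Groth.Agent.Deform.Chev.Components

/-!
# The reduced identity component of a commutative group of unipotent rank zero
-/

set_option autoImplicit false
set_option linter.style.haveILetI false
set_option linter.unusedSectionVars false
set_option backward.isDefEq.respectTransparency false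

universe u

open CategoryTheory CategoryTheory.Limits MonoidalCategory CartesianMonoidalCategory MonObj GrpObj AlgebraicGeometry

attribute [local instance] CategoryTheory.Hom.monoid CategoryTheory.Hom.group

namespace Groth.Agent.PicAb

open Deform Deform.Chev

noncomputable section

variable {k : Type u} [Field k]

/-- A commutative connected group without closed additive subgroup over an algebraically closed field has
surjective power maps. -/
theorem surjective_pow_closed {K : Type u} [Field K] [IsAlgClosed K] (G : Over (Spec (CommRingCat.of K))) [GrpObj G]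
    [IsCommMonObj G] [LocallyOfFiniteType G.hom] [QuasiCompact G.hom] [ConnectedSpace G.left]
    (hG : ∀ j : Red.Ga (Spec (CommRingCat.of K)) ⟶ G, IsMonHom j → IsClosedImmersion j.left → False)
    {n : ℕ} (hn : 0 < n) : Surjective (𝟙 G ^ n : G ⟶ G).left := by
  obtain ⟨R, iR, i, hi, hic, hRr, his, hRl, hRq⟩ := GrpSchLib.RedSubgroup.exists_redSubgroup G
  letI := iR
  haveI := hi; haveI := hic; haveI := hRr; haveI := his; haveI := hRl; haveI := hRq
  haveI : Mono i := (Over.forget _).mono_of_mono_map (inferInstanceAs (Mono i.left))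
  haveI : Smooth R.hom := GrpSchLib.smooth_of_isReduced_of_isAlgClosed R
  haveI : ConnectedSpace R.left := by
    have e : ↥R.left ≃ₜ ↥G.left := (isHomeomorph_iff_isEmbedding_surjective.mpr
      ⟨i.left.isClosedEmbedding.isEmbedding, i.left.surjective⟩).homeomorph _
    exact e.symm.surjective.connectedSpace e.symm.continuous
  haveI : IsCommMonObj R := Deform.Extension.isCommMonObj_of fun T x y => by
    rw [← cancel_mono i, MonObj.mul_comp, MonObj.mul_comp, Deform.Extension.mul_comm_of (x ≫ i)]
  have hRga : ∀ j : Red.Ga (Spec (CommRingCat.of K)) ⟶ R, IsMonHom j → IsClosedImmersion j.left → False :=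
    fun j hj hjc => hG (j ≫ i) inferInstance (inferInstanceAs (IsClosedImmersion (j.left ≫ i.left)))
  obtain ⟨-, hs, -⟩ := SemiAbExt.pow_props (NeronComp.NoGa.isSemiAb R hRga) hn
  haveI := hs
  have h : (𝟙 R ^ n : R ⟶ R) ≫ i = i ≫ (𝟙 G ^ n : G ⟶ G) := by
    rw [MonObj.pow_comp, MonObj.comp_pow, Category.id_comp, Category.comp_id]
  haveI : Surjective (i.left ≫ (𝟙 G ^ n : G ⟶ G).left) := by
    rw [← Over.comp_left, ← h, Over.comp_left]
    infer_instance
  exact Surjective.of_comp i.left _

/-- The same over any field. -/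
theorem surjective_pow (G : Over (Spec (CommRingCat.of k))) [GrpObj G] [IsCommMonObj G] [LocallyOfFiniteType G.hom]
    [QuasiCompact G.hom] [ConnectedSpace G.left] (pt : ↥(Spec (CommRingCat.of k)))
    (hG : SGA7.FibreUnipotentRankZero pt G) {n : ℕ} (hn : 0 < n) : Surjective (𝟙 G ^ n : G ⟶ G).left := by
  let K := AlgebraicClosure ((Spec (CommRingCat.of k)).residueField pt)
  obtain ⟨φ, hφ⟩ := Spec.map_surjective (Red.geomPt pt)
  let g := Spec.map φ
  haveI : ConnectedSpace (Red.bc g G).left := GrpSchLib.AntiAffine.connectedSpace_bc G φ.hom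
  haveI : LocallyOfFiniteType (Red.bc g G).hom := inferInstanceAs (LocallyOfFiniteType (pullback.snd G.hom g))
  haveI : QuasiCompact (Red.bc g G).hom := inferInstanceAs (QuasiCompact (pullback.snd G.hom g))
  haveI : IsCommMonObj (Red.bc g G) := Deform.Extension.isCommMonObj_of fun T =>
    Deform.Extension.comm_bc g (fun T => Deform.Extension.mul_comm_of) T
  have hG' : ∀ j : Red.Ga (Spec (CommRingCat.of K)) ⟶ Red.bc g G, IsMonHom j → IsClosedImmersion j.left → False := by
    show ∀ j : Red.Ga (Spec (CommRingCat.of K)) ⟶ Red.bc (Spec.map φ) G, IsMonHom j → IsClosedImmersion j.left → False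
    rw [hφ]
    exact hG
  have hsurj := surjective_pow_closed (Red.bc g G) hG' hn
  rw [← Deform.Extension.pow_bc g G n] at hsurj
  have sq := Deform.Extension.isPullback_map_left g (𝟙 G ^ n : G ⟶ G)
  haveI : Surjective g := inferInstanceAs (Surjective (Spec.map φ))
  haveI : Surjective (pullback.fst G.hom g) := MorphismProperty.pullback_fst (P := @Surjective) _ _ ‹_›
  haveI : Surjective (pullback.fst G.hom g ≫ (𝟙 G ^ n : G ⟶ G).left) := by
    rw [← sq.w]
    haveI := hsurj
    infer_instance
  exact Surjective.of_comp (pullback.fst G.hom g) _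

/-- A connected commutative group of finite type without closed additive subgroup has a smooth closed
subgroup with the same points. -/
theorem exists_smooth_sub (G : Over (Spec (CommRingCat.of k))) [GrpObj G] [IsCommMonObj G]
    [LocallyOfFiniteType G.hom] [QuasiCompact G.hom] [ConnectedSpace G.left] (pt : ↥(Spec (CommRingCat.of k)))
    (hG : SGA7.FibreUnipotentRankZero pt G) :
    ∃ (H : Over (Spec (CommRingCat.of k))) (_ : GrpObj H) (i : H ⟶ G), IsMonHom i ∧ IsClosedImmersion i.left ∧
      Smooth H.hom ∧ Surjective i.left := by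
  rcases CharP.char_is_prime_or_zero k (ringChar k) with hp | hp
  · haveI : Fact (ringChar k).Prime := ⟨hp⟩
    obtain ⟨I, iI, r, hr, hrF, hrf, hrs, hI, hIq⟩ := FrobReduce.exists_smooth_finite_image (ringChar k) G
    letI := iI
    haveI := hr; haveI := hrF; haveI := hrf; haveI := hrs; haveI := hI; haveI := hIq
    haveI := GrpSchLib.AntiAffine.isSeparated_grp I
    obtain ⟨N, iN, i, hi, hic, -, hk⟩ := GrpSchLib.exists_kernel r
    letI := iN; haveI := hi
    haveI : IsFinite N.hom := by
      have hsq : IsPullback i.left (toUnit N).left r.left η[I].left :=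
        hk.map (Over.forget _)
      exact MorphismProperty.of_isPullback (P := @IsFinite) hsq hrF
    obtain ⟨n, hn, hNn⟩ := Deform.PowTorus.exists_pow_eq_one N
    haveI : IsMonHom (𝟙 G ^ n : G ⟶ G) := Deform.Chev.SemiAb.isMonHom_pow (𝟙 G) n
    obtain ⟨s, hs, hrs'⟩ := SemiAbExt.exists_desc r i hk (𝟙 G ^ n) (by
      rw [MonObj.comp_pow, Category.comp_id]
      calc i ^ n = (𝟙 N ^ n : N ⟶ N) ≫ i := by rw [MonObj.pow_comp, Category.id_comp]
        _ = 1 := by rw [hNn, MonObj.one_comp])
    haveI := hs
    haveI : Surjective s.left := by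
      haveI := surjective_pow G pt hG hn
      haveI : Surjective (r.left ≫ s.left) := by rw [← Over.comp_left, hrs']; infer_instance
      exact Surjective.of_comp r.left _
    obtain ⟨H, iH, p, c, hp, hc, hpc, hcc, hpf, hps, hHl, hHq⟩ := GrpSchLib.ImageFactor.exists_image s
    letI := iH
    haveI := hp; haveI := hc; haveI := hpf; haveI := hps; haveI := hHl; haveI := hHq
    refine ⟨H, iH, c, hc, hcc, GrpSchLib.smooth_of_quotient p, ?_⟩
    haveI : Surjective (p.left ≫ c.left) := by rw [← Over.comp_left, hpc]; infer_instance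
    exact Surjective.of_comp p.left _
  · haveI : CharP k 0 := hp ▸ ringChar.charP k
    haveI : CharZero k := CharP.charP_to_charZero k
    exact ⟨G, inferInstance, 𝟙 G, inferInstance, inferInstanceAs (IsClosedImmersion (𝟙 G.left)),
      GrpSchLib.smooth_of_charZero G, inferInstanceAs (Surjective (𝟙 G.left))⟩

/-- The reduced identity component of a commutative group without closed additive subgroup is smooth. -/
theorem exists_smooth_component (G : Over (Spec (CommRingCat.of k))) [GrpObj G] [IsCommMonObj G]
    [LocallyOfFiniteType G.hom] (pt : ↥(Spec (CommRingCat.of k))) (hG : SGA7.FibreUnipotentRankZero pt G) :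
    ∃ (H : Over (Spec (CommRingCat.of k))) (_ : GrpObj H) (i : H ⟶ G), IsMonHom i ∧ IsClosedImmersion i.left ∧
      Smooth H.hom ∧ QuasiCompact H.hom ∧ Set.range i.left = connectedComponent (η[G].left pt) := by
  obtain ⟨G₀, iG₀, c, hc, hcc, hcf, hcr, hgi, hGc⟩ := GrpSchLib.exists_identityComponent (G := G)
  letI := iG₀
  haveI := hc; haveI := hcc; haveI := hgi; haveI := hGc
  haveI : LocallyOfFiniteType G₀.hom := by rw [← Over.w c]; infer_instance
  haveI : QuasiCompact G₀.hom := (quasiCompact_iff_compactSpace G₀.hom).mpr hGc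
  haveI : IrreducibleSpace G₀.left := GeometricallyIrreducible.irreducibleSpace G₀.hom G₀.hom.isOpenMap
  haveI : Mono c := (Over.forget _).mono_of_mono_map (inferInstanceAs (Mono c.left))
  haveI : IsCommMonObj G₀ := Deform.Extension.isCommMonObj_of fun T x y => by
    rw [← cancel_mono c, MonObj.mul_comp, MonObj.mul_comp, Deform.Extension.mul_comm_of (x ≫ c)]
  have hG₀ : SGA7.FibreUnipotentRankZero pt G₀ := fun j hj hjc => by
    haveI := hj; haveI := hjc
    haveI : IsClosedImmersion ((Over.pullback (Red.geomPt pt)).map c).left :=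
      MorphismProperty.overPullbackMap (P := @IsClosedImmersion) _ c hcc
    exact hG (j ≫ (Over.pullback (Red.geomPt pt)).map c) inferInstance
      (inferInstanceAs (IsClosedImmersion (j.left ≫ ((Over.pullback (Red.geomPt pt)).map c).left)))
  obtain ⟨H, iH, i, hi, hic, hH, his⟩ := exists_smooth_sub G₀ pt hG₀
  letI := iH
  haveI := hi; haveI := hic; haveI := hH; haveI := his
  haveI : QuasiCompact H.hom := by rw [← Over.w i]; infer_instance
  refine ⟨H, iH, i ≫ c, inferInstance, inferInstanceAs (IsClosedImmersion (i.left ≫ c.left)), hH, inferInstance, ?_⟩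
  rw [Over.comp_left, Scheme.Hom.comp_base, TopCat.coe_comp, Set.range_comp, i.left.surjective.range_eq,
    Set.image_univ, Subsingleton.elim pt (IsLocalRing.closedPoint k)]
  exact hcr

end

end Groth.Agent.PicAb
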